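import Mathlib
import Groth.Agent.Lib.Helper7.LimGen2

set_option autoImplicit false
open CategoryTheory CategoryTheory.Limits AlgebraicGeometry Opposite TopologicalSpace
universe u

/-! helper7: pro-constructible versus ind-constructible subsets in a cofiltered limit of schemes
with affine transition maps (EGA IV 8.3.4). -/

namespace Groth.Agent.Helper7.LimConsPI

open Groth.Agent.Helper7.LimBC Groth.Agent.Helper7.LimStage Groth.Agent.Helper7.LimGen
open Groth.Agent.Helper7.ProConsLib

/-- the intersection of two pro-constructible subsets of a scheme is pro-constructible. -/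
theorem isProConstructible_inter (X : Scheme.{u}) {E₁ E₂ : Set X}
    (h₁ : ProCons.IsProConstructible E₁) (h₂ : ProCons.IsProConstructible E₂) :
    ProCons.IsProConstructible (E₁ ∩ E₂) := by
  apply isProConstructible_of_forall_exists
  intro x
  obtain ⟨U, hxU⟩ := exists_affineOpen_mem X x
  have hs := spectralSpace_affineOpen X U
  refine ⟨((U : X.Opens) : Set X), (U : X.Opens).2, hs, hxU, ?_⟩
  have c1 := isClosed_cons_of_isProConstructible
    (isProConstructible_preimage_val h₁ (U : X.Opens).2)
  have c2 := isClosed_cons_of_isProConstructible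
    (isProConstructible_preimage_val h₂ (U : X.Opens).2)
  rw [Set.preimage_inter]
  exact @IsClosed.inter _ _ _ (constructibleTopology _) c1 c2

variable {I : Type u} [Category.{u} I] [IsCofiltered I] (D : I ⥤ Scheme.{u}) (c : Cone D)
  (hc : IsLimit c) [∀ {i j : I} (f : i ⟶ j), IsAffineHom (D.map f)]

set_option backward.isDefEq.respectTransparency false in
include hc in
/-- a pro-constructible subset of a quasi-compact stage with empty preimage in the limit has empty
preimage at a finite stage. -/
theorem exists_map_preimage_eq_empty (i : I) [CompactSpace (D.obj i)] {G : Set (D.obj i)}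
    (hG : ProCons.IsProConstructible G) (h : (c.π.app i) ⁻¹' G = ∅) :
    ∃ (j : I) (φ : j ⟶ i), (D.map φ) ⁻¹' G = ∅ := by
  obtain ⟨j, φ, hj⟩ := exists_preimage_eq_empty D c hc (𝟙 (D.obj i)) hG (by
    rw [Set.eq_empty_iff_forall_notMem]
    intro y hy
    have hy' : c.π.app i (pullback.snd (𝟙 (D.obj i)) (c.π.app i) y) ∈ G := by
      rw [← Scheme.Hom.comp_apply, ← pullback.condition, Category.comp_id]
      exact hy
    have : pullback.snd (𝟙 (D.obj i)) (c.π.app i) y ∈ (c.π.app i) ⁻¹' G := hy'
    rw [h] at this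
    exact this)
  refine ⟨j, φ, ?_⟩
  rw [Set.eq_empty_iff_forall_notMem]
  intro y hy
  have : (pullback.lift (D.map φ) (𝟙 _) (by simp) : D.obj j ⟶ pullback (𝟙 (D.obj i)) (D.map φ)) y ∈
      (pullback.fst (𝟙 (D.obj i)) (D.map φ)) ⁻¹' G := by
    rw [Set.mem_preimage, ← Scheme.Hom.comp_apply, pullback.lift_fst]
    exact hy
  rw [hj] at this
  exact this

set_option backward.isDefEq.respectTransparency false in
include hc in
/-- EGA IV 8.3.4. -/
theorem subset_iff_eventually (i₀ : I) [CompactSpace (D.obj i₀)] (E F : ∀ i : I, Set (D.obj i))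
    (hE : ∀ i, ProCons.IsProConstructible (E i)) (hF : ∀ i, ProCons.IsIndConstructible (F i))
    (hEm : ∀ (i j : I) (φ : i ⟶ j), E i ⊆ (D.map φ) ⁻¹' E j)
    (hFm : ∀ (i j : I) (φ : i ⟶ j), (D.map φ) ⁻¹' F j ⊆ F i) :
    (⋂ i, (c.π.app i) ⁻¹' E i : Set c.pt) ⊆ (⋃ i, (c.π.app i) ⁻¹' F i : Set c.pt) ↔
      ∃ (i : I) (_ : i ⟶ i₀), ∀ (j : I) (_ : j ⟶ i), E j ⊆ F j := by
  classical
  constructor
  · intro h
    have hπ := isAffineHom_π_app D c hc
    have : CompactSpace c.pt := QuasiCompact.compactSpace_of_compactSpace (c.π.app i₀)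
    obtain ⟨t, ht⟩ := exists_finite_affine_cover c.pt
    let G : I ⊕ I → Set c.pt := Sum.elim (fun i => (c.π.app i) ⁻¹' E i)
      (fun i => ((c.π.app i) ⁻¹' F i)ᶜ)
    have hG : ∀ k, ProCons.IsProConstructible (G k) := by
      rintro (i | i)
      · exact isProConstructible_preimage (c.π.app i) (hE i)
      · exact isProConstructible_compl (isIndConstructible_preimage (c.π.app i) (hF i))
    obtain ⟨J, hJ⟩ := exists_finset_iInter_subset
      (fun U : t => (((U.1 : c.pt.affineOpens) : c.pt.Opens) : Set c.pt))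
      (fun U => ((U.1 : c.pt.affineOpens) : c.pt.Opens).2)
      (fun U => spectralSpace_affineOpen c.pt U.1)
      (fun x => by obtain ⟨U, hU, hx⟩ := ht x; exact ⟨⟨U, hU⟩, hx⟩)
      (E := (∅ : Set c.pt))
      (isIndConstructible_of_isLocallyConstructible Topology.IsLocallyConstructible.empty) G hG
      (by
        intro x hx
        rw [Set.mem_iInter] at hx
        have h1 : x ∈ ⋂ i, (c.π.app i) ⁻¹' E i := Set.mem_iInter.mpr fun i => hx (Sum.inl i)
        obtain ⟨i, hi⟩ := Set.mem_iUnion.mp (h h1)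
        exact hx (Sum.inr i) hi)
    obtain ⟨i, hi⟩ := IsCofiltered.inf_objs_exists
      (insert i₀ (J.image (Sum.elim id id)) : Finset I)
    have hi₀ : Nonempty (i ⟶ i₀) := hi (Finset.mem_insert_self _ _)
    obtain ⟨φ₀⟩ := hi₀
    have : CompactSpace (D.obj i) := QuasiCompact.compactSpace_of_compactSpace (D.map φ₀)
    have hempty : (c.π.app i) ⁻¹' (E i ∩ (F i)ᶜ) = ∅ := by
      rw [Set.eq_empty_iff_forall_notMem]
      rintro x ⟨hx1, hx2⟩
      have : x ∈ ⋂ k ∈ J, G k := by
        rw [Set.mem_iInter₂]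
        rintro (k | k) hk
        · have hk' : k ∈ (insert i₀ (J.image (Sum.elim id id)) : Finset I) :=
            Finset.mem_insert_of_mem (Finset.mem_image.mpr ⟨_, hk, rfl⟩)
          obtain ⟨φ⟩ := hi hk'
          change c.π.app k x ∈ E k
          rw [← c.w φ, Scheme.Hom.comp_apply]
          exact hEm i k φ hx1
        · have hk' : k ∈ (insert i₀ (J.image (Sum.elim id id)) : Finset I) :=
            Finset.mem_insert_of_mem (Finset.mem_image.mpr ⟨_, hk, rfl⟩)
          obtain ⟨φ⟩ := hi hk'
          change ¬ (c.π.app k x ∈ F k)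
          intro hxk
          apply hx2
          apply hFm i k φ
          rw [Set.mem_preimage, ← Scheme.Hom.comp_apply, c.w φ]
          exact hxk
      exact hJ this
    obtain ⟨j, φ, hj⟩ := exists_map_preimage_eq_empty D c hc i
      (isProConstructible_inter _ (hE i) (isProConstructible_compl (hF i))) hempty
    refine ⟨j, φ ≫ φ₀, fun k ψ x hx => ?_⟩
    by_contra hxF
    have : D.map ψ x ∈ (D.map φ) ⁻¹' (E i ∩ (F i)ᶜ) := by
      refine ⟨?_, fun hn => hxF (hFm k i (ψ ≫ φ) ?_)⟩
      · have := hEm k i (ψ ≫ φ) hx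
        rw [Set.mem_preimage, D.map_comp, Scheme.Hom.comp_apply] at this
        exact this
      · rw [Set.mem_preimage, D.map_comp, Scheme.Hom.comp_apply]
        exact hn
    rw [hj] at this
    exact this
  · rintro ⟨i, _, H⟩ x hx
    rw [Set.mem_iInter] at hx
    exact Set.mem_iUnion.mpr ⟨i, H i (𝟙 i) (hx i)⟩

end Groth.Agent.Helper7.LimConsPI
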